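import Mathlib

/-!
# A Noetherian local ring whose maximal ideal is generated by a nonzerodivisor is regular
-/

set_option autoImplicit false
universe u

namespace Groth.Agent.H5.MPS

/-- a Noetherian local ring whose maximal ideal is generated by one nonzerodivisor is a regular
local ring (of dimension one). -/
theorem isRegularLocalRing_of_span_nzd (R : Type*) [CommRing R] [IsLocalRing R]
    [IsNoetherianRing R] (t : R) (ht : t ∈ nonZeroDivisors R)
    (hm : IsLocalRing.maximalIdeal R = Ideal.span {t}) : IsRegularLocalRing R := by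
  apply IsRegularLocalRing.of_spanFinrank_maximalIdeal_le
  have h1 : (IsLocalRing.maximalIdeal R).spanFinrank ≤ 1 := by
    rw [hm]
    have := Submodule.spanFinrank_span_le_ncard_of_finite (R := R) (Set.finite_singleton t)
    simpa using this
  have h2 : (1 : WithBot ℕ∞) ≤ ringKrullDim R := by
    by_contra hcon
    have h0 : Ring.KrullDimLE 0 R := by
      rw [Ring.krullDimLE_iff]
      have hlt : ringKrullDim R < 1 := not_le.mp hcon
      generalize ringKrullDim R = d at hlt
      induction d using WithBot.recBotCoe with
      | bot => exact bot_le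
      | coe a =>
        have h1' : (1 : WithBot ℕ∞) = ((1 : ℕ∞) : WithBot ℕ∞) := rfl
        rw [h1', WithBot.coe_lt_coe, ENat.lt_one_iff_eq_zero] at hlt
        rw [hlt]
        rfl
    have h3 := ((Ring.krullDimLE_zero_and_isLocalRing_tfae R).out 0 2 rfl rfl).mp
      ⟨h0, inferInstance⟩
    have htm : t ∈ IsLocalRing.maximalIdeal R := by
      rw [hm]
      exact Ideal.subset_span rfl
    have hnu : ¬ IsUnit t := (IsLocalRing.mem_maximalIdeal t).mp htm
    obtain ⟨n, hn⟩ := (h3 t).mpr hnu
    have hp : t ^ n ∈ nonZeroDivisors R := pow_mem ht n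
    rw [hn] at hp
    exact zero_notMem_nonZeroDivisors hp
  calc ((IsLocalRing.maximalIdeal R).spanFinrank : WithBot ℕ∞) ≤ ((1 : ℕ) : WithBot ℕ∞) := by
        exact_mod_cast h1
    _ = 1 := rfl
    _ ≤ ringKrullDim R := h2

end Groth.Agent.H5.MPS
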