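import Mathlib
import Groth.Agent.Lib.Helper5.MPS.RingA
import Groth.Agent.Lib.Helper5.MP.MP
import Groth.Agent.Lib.Helper5.Curve6.RP2
import Groth.Agent.Lib.Lead.QC.BlowUpReg

/-!
# The ideal sheaf of a closed point is effective Cartier iff the local ring is a "DVR"
(no integrality assumption on the scheme)
-/

set_option autoImplicit false
universe u
open CategoryTheory CategoryTheory.Limits AlgebraicGeometry TopologicalSpace Opposite

namespace Groth.Agent.H5.MPS

open Groth.Agent.H5.Curve3 Groth.Agent.H5.Curve6 Groth.Agent.LD.QC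

variable {X : Scheme.{u}}

/-- **the ideal sheaf of a closed point of a locally Noetherian scheme whose local ring is a domain
with principal nonzero maximal ideal is an effective Cartier divisor.** -/
theorem isEffCartierIdeal_point [IsLocallyNoetherian X]
    (x : X) (hx : IsClosed ({x} : Set X)) (hdom : IsDomain (X.presheaf.stalk x))
    (hpr : (IsLocalRing.maximalIdeal (X.presheaf.stalk x)).IsPrincipal)
    (hnf : IsLocalRing.maximalIdeal (X.presheaf.stalk x) ≠ ⊥) :
    BlowUp.IsEffCartierIdeal (Scheme.IdealSheafData.vanishingIdeal ⟨{x}, hx⟩) := by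
  intro y
  by_cases hy : y = x
  · subst hy
    obtain ⟨_, ⟨U, hU, rfl⟩, hxU, -⟩ :=
      X.isBasis_affineOpens.exists_subset_of_mem_open (Set.mem_univ y) isOpen_univ
    haveI : IsNoetherianRing Γ(X, U) := IsLocallyNoetherian.component_noetherian ⟨U, hU⟩
    letI : Algebra Γ(X, U) (X.presheaf.stalk y) :=
      TopCat.Presheaf.algebra_section_stalk X.presheaf ⟨y, hxU⟩
    haveI hloc : IsLocalization.AtPrime (X.presheaf.stalk y)
        (hU.primeIdealOf ⟨y, hxU⟩).asIdeal := hU.isLocalization_stalk ⟨y, hxU⟩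
    have hfg : (hU.primeIdealOf ⟨y, hxU⟩).asIdeal.FG :=
      (isNoetherianRing_iff_ideal_fg _).mp inferInstance _
    obtain ⟨g, hg, a, hap, hgen, hmul⟩ :=
      exists_smul_le_span (hU.primeIdealOf ⟨y, hxU⟩).asIdeal hfg (X.presheaf.stalk y) hpr
    have hyg : y ∈ X.basicOpen g := (mem_basicOpen_iff_notMem_primeIdealOf hU g y hxU).mpr hg
    have hVaff : IsAffineOpen (X.basicOpen g) := (X.affineBasicOpen (U := ⟨U, hU⟩) g).2
    have heq : (Scheme.IdealSheafData.vanishingIdeal ⟨{y}, hx⟩).ideal
        (X.affineBasicOpen (U := ⟨U, hU⟩) g) =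
        Ideal.span {(X.presheaf.map (homOfLE (X.basicOpen_le g)).op).hom a} := by
      rw [← (Scheme.IdealSheafData.vanishingIdeal ⟨{y}, hx⟩).map_ideal_basicOpen ⟨U, hU⟩ g,
        vanishingIdeal_singleton_ideal_of_mem y hx ⟨U, hU⟩ hxU]
      apply le_antisymm
      · refine Ideal.map_le_iff_le_comap.mpr ?_
        intro b hb
        obtain ⟨c, hc⟩ := hmul b hb
        rw [Ideal.mem_comap]
        have hu : IsUnit ((X.presheaf.map (homOfLE (X.basicOpen_le g)).op).hom g) :=
          X.toRingedSpace.isUnit_res_basicOpen g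
        obtain ⟨w, hw⟩ := hu
        have h2 := congrArg (X.presheaf.map (homOfLE (X.basicOpen_le g)).op).hom hc
        rw [map_mul, map_mul, ← hw] at h2
        have h3 : (X.presheaf.map (homOfLE (X.basicOpen_le g)).op).hom b =
            (↑w⁻¹ * (X.presheaf.map (homOfLE (X.basicOpen_le g)).op).hom c) *
              (X.presheaf.map (homOfLE (X.basicOpen_le g)).op).hom a := by
          rw [mul_assoc, ← h2, ← mul_assoc, Units.inv_mul, one_mul]
        rw [h3]
        exact Ideal.mul_mem_left _ _ (Ideal.subset_span rfl)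
      · refine Ideal.span_le.mpr (Set.singleton_subset_iff.mpr ?_)
        exact Ideal.mem_map_of_mem _ hap
    refine ⟨X.affineBasicOpen (U := ⟨U, hU⟩) g, hyg,
      X.presheaf.map (homOfLE (X.basicOpen_le g)).op a, ?_, heq⟩
    -- nonzerodivisor, checked on germs
    change (X.presheaf.map (homOfLE (X.basicOpen_le g)).op).hom a ∈
      nonZeroDivisors Γ(X, X.basicOpen g)
    apply mem_nonZeroDivisors_of_germ
    intro z hz
    by_cases hzy : z = y
    · subst hzy
      apply mem_nonZeroDivisors_of_ne_zero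
      intro h0
      apply hnf
      rw [hgen]
      have h1 : algebraMap Γ(X, U) (X.presheaf.stalk z) a =
          X.presheaf.germ (X.basicOpen g) z hyg
            (X.presheaf.map (homOfLE (X.basicOpen_le g)).op a) := by
        rw [TopCat.Presheaf.germ_res_apply]
        rfl
      rw [h1, h0]
      simp
    · have hIy := vanishingIdeal_singleton_ideal_of_mem y hx ⟨_, hVaff⟩ hyg
      have hnot : (X.presheaf.map (homOfLE (X.basicOpen_le g)).op).hom a ∉
          (hVaff.primeIdealOf ⟨z, hz⟩).asIdeal := by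
        intro hmem
        have hle : (hVaff.primeIdealOf ⟨y, hyg⟩).asIdeal ≤
            (hVaff.primeIdealOf ⟨z, hz⟩).asIdeal := by
          rw [← hIy]
          change (Scheme.IdealSheafData.vanishingIdeal ⟨{y}, hx⟩).ideal
            (X.affineBasicOpen (U := ⟨U, hU⟩) g) ≤ _
          rw [heq]
          exact Ideal.span_le.mpr (Set.singleton_subset_iff.mpr hmem)
        have hsp : hVaff.primeIdealOf ⟨y, hyg⟩ ⤳ hVaff.primeIdealOf ⟨z, hz⟩ :=
          (PrimeSpectrum.le_iff_specializes _ _).mp hle
        have hsp2 := hsp.map hVaff.fromSpec.continuous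
        rw [hVaff.fromSpec_primeIdealOf, hVaff.fromSpec_primeIdealOf] at hsp2
        exact hzy (hsp2.mem_closed hx (Set.mem_singleton y))
      letI : Algebra Γ(X, X.basicOpen g) (X.presheaf.stalk z) :=
        TopCat.Presheaf.algebra_section_stalk X.presheaf ⟨z, hz⟩
      haveI := hVaff.isLocalization_stalk ⟨z, hz⟩
      have hu : IsUnit (algebraMap Γ(X, X.basicOpen g) (X.presheaf.stalk z)
          ((X.presheaf.map (homOfLE (X.basicOpen_le g)).op).hom a)) :=
        (IsLocalization.AtPrime.isUnit_to_map_iff (X.presheaf.stalk z)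
          (hVaff.primeIdealOf ⟨z, hz⟩).asIdeal _).mpr hnot
      exact hu.mem_nonZeroDivisors
  · have hyo : y ∈ ({x}ᶜ : Set X) := hy
    obtain ⟨_, ⟨U, hU, rfl⟩, hyU, hUx⟩ :=
      X.isBasis_affineOpens.exists_subset_of_mem_open hyo hx.isOpen_compl
    refine ⟨⟨U, hU⟩, hyU, 1, one_mem _, ?_⟩
    rw [vanishingIdeal_singleton_ideal_of_notMem x hx ⟨U, hU⟩ (fun h => hUx h rfl)]
    exact Ideal.span_singleton_one.symm

/-- conversely: if the ideal sheaf of a closed point is effective Cartier, the local ring at the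
point is regular. -/
theorem isRegularLocalRing_of_isEffCartierIdeal [IsLocallyNoetherian X]
    (x : X) (hx : IsClosed ({x} : Set X))
    (h : BlowUp.IsEffCartierIdeal (Scheme.IdealSheafData.vanishingIdeal ⟨{x}, hx⟩)) :
    IsRegularLocalRing (X.presheaf.stalk x) := by
  obtain ⟨V, hxV, a, ha, heq⟩ := h x
  haveI : IsNoetherianRing Γ(X, V.1) := IsLocallyNoetherian.component_noetherian V
  letI : Algebra Γ(X, V.1) (X.presheaf.stalk x) :=
    TopCat.Presheaf.algebra_section_stalk X.presheaf ⟨x, hxV⟩
  haveI hloc : IsLocalization.AtPrime (X.presheaf.stalk x)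
      (V.2.primeIdealOf ⟨x, hxV⟩).asIdeal := V.2.isLocalization_stalk ⟨x, hxV⟩
  haveI : IsNoetherianRing (X.presheaf.stalk x) :=
    IsLocalization.isNoetherianRing (V.2.primeIdealOf ⟨x, hxV⟩).asIdeal.primeCompl _ inferInstance
  rw [vanishingIdeal_singleton_ideal_of_mem x hx V hxV] at heq
  refine isRegularLocalRing_of_span_nzd (X.presheaf.stalk x)
    (algebraMap Γ(X, V.1) (X.presheaf.stalk x) a) ?_ ?_
  · exact germ_mem_nonZeroDivisors V.2 a ha x hxV
  · rw [← IsLocalization.AtPrime.map_eq_maximalIdeal (V.2.primeIdealOf ⟨x, hxV⟩).asIdeal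
      (X.presheaf.stalk x), heq, Ideal.map_span, Set.image_singleton]

end Groth.Agent.H5.MPS
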