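import Mathlib
import Groth.Agent.Lib.Helper5.MPS.Cart
import Groth.Agent.Lib.Helper5.Snap.DimComp
import Groth.Agent.Lib.Helper1.SmoothReg
import Groth.Agent.Lib.Helper1.GenPts
import Groth.Agent.Lib.Helper7.Reg1
import Groth.Agent.Lib.Lead.Curve.Proper
import Groth.Agent.Lib.Lead.QC.IdealMod

/-!
# `m_P` is invertible iff the curve is smooth near `P` (S15923)
-/

set_option autoImplicit false
set_option linter.style.haveILetI false
universe u
open CategoryTheory CategoryTheory.Limits AlgebraicGeometry TopologicalSpace Opposite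

namespace Groth.Agent.H5.MPS

open Groth.Agent.LD Groth.Agent.LD.QC Groth.Agent.H5.Curve2 Groth.Agent.H5.Snap

variable {X : Scheme.{u}}

/-- on an equidimensional curve, a closed point with regular local ring has an effective Cartier
ideal sheaf. -/
theorem isEffCartierIdeal_of_regular [IsLocallyNoetherian X]
    (hequi : ∀ Z ∈ irreducibleComponents (X : Type u), topologicalKrullDim Z = 1)
    (P : X) (hP : IsClosed ({P} : Set X)) (hreg : IsRegularLocalRing (X.presheaf.stalk P)) :
    BlowUp.IsEffCartierIdeal (Scheme.IdealSheafData.vanishingIdeal ⟨{P}, hP⟩) := by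
  have hdom : IsDomain (X.presheaf.stalk P) := Groth.Agent.H7.Reg.isDomain _
  have hdim : topologicalKrullDim X ≤ 1 :=
    dim_le_of_forall_irreducibleComponents 1 (fun Z hZ => (hequi Z hZ).le)
  have hle : ringKrullDim (X.presheaf.stalk P) ≤ 1 :=
    (Curve.ringKrullDim_stalk_le X P).trans hdim
  have hne : ringKrullDim (X.presheaf.stalk P) ≠ 0 := by
    intro h0
    have hc := Groth.Agent.H1.GenPts.closure_mem_irreducibleComponents_of_stalk_dim_eq_zero P h0
    exact Groth.Agent.H5.MP.ne_of_isClosed_of_dim_one P P hP (hequi _ hc) rfl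
  have h2 := hreg.spanFinrank_maximalIdeal
  have h3 : (IsLocalRing.maximalIdeal (X.presheaf.stalk P)).spanFinrank = 1 := by
    generalize (IsLocalRing.maximalIdeal (X.presheaf.stalk P)).spanFinrank = n at h2
    rw [← h2] at hle hne
    have h4 : n ≤ 1 := by exact_mod_cast hle
    have h5 : n ≠ 0 := by
      rintro rfl
      exact hne rfl
    omega
  have hpr := ((Submodule.spanFinrank_eq_one_iff _).mp h3).1
  have hnf : IsLocalRing.maximalIdeal (X.presheaf.stalk P) ≠ ⊥ := by
    intro hbot
    rw [hbot] at h3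
    simp at h3
  exact isEffCartierIdeal_point P hP hdom hpr hnf

variable (k : Type u) [Field k] [X.Over (Spec (CommRingCat.of k))]
  [IsProper (X ↘ Spec (CommRingCat.of k))]

/-- **S15923.** -/
theorem isInvertible_idealMod_point_iff [IsAlgClosed k]
    (hequi : ∀ Z ∈ irreducibleComponents (X : Type u), topologicalKrullDim Z = 1)
    (P : X) (hP : IsClosed ({P} : Set X)) :
    PicF.IsInvertible (ClSub.idealMod (Scheme.IdealSheafData.vanishingIdeal ⟨{P}, hP⟩)) ↔
      ∃ U : X.Opens, P ∈ U ∧ Smooth (U.ι ≫ (X ↘ (Spec (CommRingCat.of k)))) := by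
  haveI : IsNoetherian X := Curve2.isNoetherian_of_proper k X
  haveI : LocallyOfFinitePresentation (X ↘ Spec (CommRingCat.of k)) := inferInstance
  rw [isInvertible_idealMod_iff]
  constructor
  · intro h
    have hreg := isRegularLocalRing_of_isEffCartierIdeal P hP h
    have hmem := Groth.Agent.H1.SmoothReg.mem_smoothLocus_of_isRegularLocalRing k
      (X ↘ Spec (CommRingCat.of k)) P hreg
    refine ⟨(X ↘ Spec (CommRingCat.of k)).smoothLocus, hmem, ?_⟩
    rw [← Scheme.Hom.smoothLocus_eq_top_iff, ← Scheme.Hom.preimage_smoothLocus_eq,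
      Scheme.Opens.ι_preimage_self]
  · rintro ⟨U, hPU, hsm⟩
    have h1 : (U.ι ≫ (X ↘ Spec (CommRingCat.of k))).smoothLocus = ⊤ :=
      Scheme.Hom.smoothLocus_eq_top _
    rw [← Scheme.Hom.preimage_smoothLocus_eq] at h1
    have hmem : P ∈ (X ↘ Spec (CommRingCat.of k)).smoothLocus := by
      have h2 : (⟨P, hPU⟩ : U) ∈ U.ι ⁻¹ᵁ (X ↘ Spec (CommRingCat.of k)).smoothLocus := by
        rw [h1]
        trivial
      exact h2
    have hreg := Groth.Agent.H1.SmoothReg.isRegularLocalRing_of_mem_smoothLocus k
      (X ↘ Spec (CommRingCat.of k)) P hmem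
    exact isEffCartierIdeal_of_regular hequi P hP hreg

end Groth.Agent.H5.MPS
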